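import Cfsg.Agent.M23Ord.Tools

/-!
# Simple groups of order 244823040: tools

Degrees are divisors of the order below 15647; a list of them makes the residue tests small.
-/

set_option autoImplicit false
set_option linter.style.haveILetI false
set_option linter.unusedSectionVars false

namespace CfsgLib.M24Ord

open Cfsg Finset CfsgLib.Block CfsgLib.Block.Chr CfsgLib.BrauerPrime CfsgLib.BrauerPairs
open CfsgLib.M23Ord (sums residue mod_of_modEq goodX goodY all_range)
open CfsgLib.Cyclic (deg)

universe u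

/-- The divisors of 244823040 below 15647. -/
def degDivs : List ℕ :=
  [
    1, 2, 3, 4, 5, 6, 7, 8, 9, 10, 11, 12, 14, 15, 16, 18, 20, 21, 22, 23, 24, 27, 28, 30, 32, 33,
    35, 36, 40, 42, 44, 45, 46, 48, 54, 55, 56, 60, 63, 64, 66, 69, 70, 72, 77, 80, 84, 88, 90,
    92, 96, 99, 105, 108, 110, 112, 115, 120, 126, 128, 132, 135, 138, 140, 144, 154, 160, 161,
    165, 168, 176, 180, 184, 189, 192, 198, 207, 210, 216, 220, 224, 230, 231, 240, 252, 253, 256,
    264, 270, 276, 280, 288, 297, 308, 315, 320, 322, 330, 336, 345, 352, 360, 368, 378, 384, 385,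
    396, 414, 420, 432, 440, 448, 460, 462, 480, 483, 495, 504, 506, 512, 528, 540, 552, 560, 576,
    594, 616, 621, 630, 640, 644, 660, 672, 690, 693, 704, 720, 736, 756, 759, 768, 770, 792, 805,
    828, 840, 864, 880, 896, 920, 924, 945, 960, 966, 990, 1008, 1012, 1024, 1035, 1056, 1080,
    1104, 1120, 1152, 1155, 1188, 1232, 1242, 1260, 1265, 1280, 1288, 1320, 1344, 1380, 1386,
    1408, 1440, 1449, 1472, 1485, 1512, 1518, 1536, 1540, 1584, 1610, 1656, 1680, 1728, 1760,
    1771, 1792, 1840, 1848, 1890, 1920, 1932, 1980, 2016, 2024, 2070, 2079, 2112, 2160, 2208,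
    2240, 2277, 2304, 2310, 2376, 2415, 2464, 2484, 2520, 2530, 2560, 2576, 2640, 2688, 2760,
    2772, 2816, 2880, 2898, 2944, 2970, 3024, 3036, 3072, 3080, 3105, 3168, 3220, 3312, 3360,
    3456, 3465, 3520, 3542, 3584, 3680, 3696, 3780, 3795, 3840, 3864, 3960, 4032, 4048, 4140,
    4158, 4224, 4320, 4347, 4416, 4480, 4554, 4608, 4620, 4752, 4830, 4928, 4968, 5040, 5060,
    5120, 5152, 5280, 5313, 5376, 5520, 5544, 5632, 5760, 5796, 5888, 5940, 6048, 6072, 6160,
    6210, 6336, 6440, 6624, 6720, 6831, 6912, 6930, 7040, 7084, 7168, 7245, 7360, 7392, 7560,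
    7590, 7680, 7728, 7920, 8064, 8096, 8280, 8316, 8448, 8640, 8694, 8832, 8855, 8960, 9108,
    9216, 9240, 9504, 9660, 9856, 9936, 10080, 10120, 10304, 10395, 10560, 10626, 10752, 11040,
    11088, 11264, 11385, 11520, 11592, 11776, 11880, 12096, 12144, 12320, 12420, 12672, 12880,
    13248, 13440, 13662, 13824, 13860, 14080, 14168, 14490, 14720, 14784, 15120, 15180, 15360,
    15456
  ]

theorem mem_degDivs {d : ℕ} (hd : d < 15647) (hdvd : d ∣ 244823040) : d ∈ degDivs := by
  have h : (List.range 15647).all (fun k =>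
      if 244823040 % k = 0 then degDivs.contains k else true) = true := by decide +kernel
  have := all_range h hd
  simpa [Nat.mod_eq_zero_of_dvd hdvd] using this

variable {G : Type u} [Group G] [Fintype G]

/-- A simple group of order 244823040 is not cyclic. -/
theorem not_cyclic [IsSimpleGroup G] (hcard : Nat.card G = 244823040) : ¬ IsCyclic G := fun h => by
  haveI := h
  letI := IsCyclic.commGroup (α := G)
  have := IsSimpleGroup.prime_card (α := G)
  rw [hcard] at this
  norm_num at this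

theorem setup [IsSimpleGroup G] (hcard : Nat.card G = 244823040) {p : ℕ} [Fact p.Prime]
    (S : Sylow p G) {m : ℕ} (hm : 244823040 = p * m) (hpm : ¬ p ∣ m) : Setup G p S :=
  setup_of_simple (not_cyclic hcard) (by
    simpa using CfsgLib.SmallSimple.card_sylow_eq S (k := 1) (m := m) (by rw [hcard, pow_one, hm]) hpm)

/-- Few Sylow subgroups are impossible. -/
theorem not_few [IsSimpleGroup G] (hcard : Nat.card G = 244823040) {p n : ℕ} [Fact p.Prime]
    (hp : p ∈ [23, 11, 7, 5]) {S : Sylow p G} (h : Setup G p S)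
    (hn : Nat.card (Sylow p G) = 1 + n * p) (hsmall : 2 * n < p + 3) : False := by
  simp only [List.mem_cons, List.not_mem_nil, or_false] at hp
  rcases classify h hn (not_eqn_of_lt hsmall) with
    ⟨F, iF, iF', hF, -, ⟨e⟩⟩ | ⟨m, F, iF, iF', hF, hpm, -, ⟨e⟩⟩
  · have h1 := CfsgLib.Linear.Small.card_psl_two hF
    rw [← Nat.card_congr e.toEquiv, hcard] at h1
    rcases hp with rfl | rfl | rfl | rfl <;> norm_num at h1
  · have h16 : m ≤ 4 := by
      by_contra hle
      have h32 : 2 ^ 5 ≤ 2 ^ m := Nat.pow_le_pow_right two_pos (by omega)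
      omega
    interval_cases m <;> norm_num at hpm <;> try omega
    have h1 := CfsgLib.Linear.Small.card_psl_two hF
    rw [← Nat.card_congr e.toEquiv, hcard] at h1
    norm_num at h1

theorem deg_lt (hcard : Nat.card G = 244823040) (χ : IrrCharacter G) :
    charDegree (χ : G → ℂ) < 15647 := by
  have h := deg_sq_le (G := G) χ
  rw [hcard, show deg χ = (charDegree (χ : G → ℂ) : ℤ) from rfl] at h
  by_contra hle
  have h' : (15647 : ℤ) ≤ (charDegree (χ : G → ℂ) : ℤ) := by exact_mod_cast not_lt.1 hle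
  push_cast at h
  nlinarith

theorem deg_mem (hcard : Nat.card G = 244823040) (χ : IrrCharacter G) :
    charDegree (χ : G → ℂ) ∈ degDivs :=
  mem_degDivs (deg_lt hcard χ) (hcard ▸ CfsgLib.Block.charDegree_dvd_card χ)

/-- A principal block whose degrees have impossible residues. -/
theorem no_block (hcard : Nat.card G = 244823040) {p : ℕ} [Fact p.Prime] {S : Sylow p G}
    {M : Ideal AlgInt} [M.IsPrime] (hM : IsPModular p M) (h : Setup G p S) {c e n s : ℕ}
    (num : Num S c e n) {X Y : Finset (IrrCharacter G)} {sg : IrrCharacter G → ℤ} {ε : ℤ}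
    (B : Blk M S e s X Y sg ε) (bad : ℕ → Bool)
    (hbad : ∀ χ : IrrCharacter G, χ ∈ X ∨ χ ∈ Y → χ ≠ trivIrr G →
      bad (charDegree (χ : G → ℂ)) = false) (m : ℕ) (L : List (ZMod m)) (he : e < p)
    (hX : degDivs.all (goodX p (e * (1 + n * p)) m bad L) = true)
    (hY : degDivs.all (goodY p (e * (1 + n * p)) e m bad (sums L (e - 1))) = true) : False := by
  classical
  obtain ⟨θ, hθ⟩ := card_pos.1 (B.cardY ▸ B.spos : 0 < Y.card)
  have hp2 := (Fact.out : p.Prime).two_le
  have hres := residue B hθ m L fun χ hχ hne => by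
    have hd := B.dvdX h num hχ
    have hg := List.all_eq_true.1 hX _ (deg_mem hcard χ)
    have hc := mod_of_modEq (d := charDegree (χ : G → ℂ)) (r := 1) (B.sign χ hχ) hp2 one_pos
      (by rw [Nat.cast_one, mul_one]; exact B.congX χ hχ)
    simp only [goodX, hbad χ (Or.inl hχ) hne, hd, and_self, if_true, Bool.and_eq_true] at hg
    show (((sg χ * (charDegree (χ : G → ℂ) : ℤ) : ℤ)) : ZMod m) ∈ L
    rcases hc with ⟨h1, h2⟩ | ⟨h1, h2⟩
    · rw [h2]; simpa [h1] using hg.1
    · rw [h2]; simpa [h1] using hg.2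
  have hd := B.dvdY hM h num hθ
  have hg := List.all_eq_true.1 hY _ (deg_mem hcard θ)
  have hc := mod_of_modEq (d := charDegree (θ : G → ℂ)) (r := e) B.signY he
    (by have := num.epos; omega) (B.congY θ hθ)
  rw [goodY, if_pos ⟨hd, hbad θ (Or.inr hθ) fun hh => B.disj _ B.triv (hh ▸ hθ)⟩,
    Bool.and_eq_true] at hg
  change (((ε * (charDegree (θ : G → ℂ) : ℤ) : ℤ)) : ZMod m) ∈ _ at hres
  rcases hc with ⟨h1, h2⟩ | ⟨h1, h2⟩ <;> rw [h2] at hres
  · simp [h1] at hg hres
    exact hg.1 hres
  · simp [h1] at hg hres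
    exact hg.2 hres

end CfsgLib.M24Ord
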