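import Cfsg.Agent.M24Ord.Tools
import Cfsg.Agent.M23Ord.Value

/-!
# Simple groups of order 244823040: the Sylow subgroups of order 23

There are 967680 of them, each is its own centralizer and its normalizer has order 253.
An element of order three that centralizes a Sylow subgroup of order 23 and an element of
order 11 normalizing it rules out the degrees 231 and 495 in the principal block, which is what
the residue tests of the four remaining cases need.
-/

set_option autoImplicit false
set_option linter.style.haveILetI false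
set_option linter.unusedSectionVars false

namespace CfsgLib.M24Ord

open Cfsg Subgroup CfsgLib.Block CfsgLib.Block.Chr CfsgLib.BrauerPrime CfsgLib.BrauerPairs
open CfsgLib.Cyclic (deg)
open CfsgLib.M23Ord (all_range c_eq_one_of_lt sum_over Y_rational value_pow mod_of_modEq)

universe u

/-- The numbers `1 + 23 n` dividing the index of a Sylow subgroup of order 23. -/
theorem count_options {n : ℕ} (hd : 1 + n * 23 ∣ 10644480) (hn : 1 ≤ n) :
    n ∈ [1, 3, 10, 25, 43, 73, 153, 241, 601, 857, 1033, 1753, 3673, 5785, 42073] := by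
  set L := [1, 3, 10, 25, 43, 73, 153, 241, 601, 857, 1033, 1753, 3673, 5785, 42073] with hL
  rcases Nat.lt_or_ge n 1000 with hlt | hge
  · have h : (List.range 1000).all (fun k => if 10644480 % (1 + k * 23) = 0 ∧ 1 ≤ k then
        L.contains k else true) = true := by decide +kernel
    simpa [Nat.mod_eq_zero_of_dvd hd, hn] using all_range h hlt
  · obtain ⟨q, hq⟩ := hd
    have hq0 : 0 < q := Nat.pos_of_ne_zero fun e => by rw [e, mul_zero] at hq; omega
    have hq4 : q < 463 := by nlinarith
    have h : (List.range 463).all (fun k => if 10644480 % k = 0 ∧ 10644480 / k % 23 = 1 ∧ 1 ≤ k then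
        L.contains (10644480 / k / 23) else true) = true := by decide +kernel
    have h1 : 10644480 % q = 0 := Nat.mod_eq_zero_of_dvd ⟨1 + n * 23, by rw [hq, mul_comm]⟩
    have h2 : 10644480 / q = 1 + n * 23 := by rw [hq, Nat.mul_div_cancel _ hq0]
    have h3 := all_range h hq4
    rw [h2, show (1 + n * 23) % 23 = 1 by omega, show (1 + n * 23) / 23 = n by omega] at h3
    simpa [h1, Nat.one_le_iff_ne_zero, hq0.ne'] using h3

section Fixed

/-- An automorphism of order dividing 11 of a group of order prime to 11 fixes an element of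
order three. -/
theorem exists_fixed_three {K : Type*} [Group K] [Finite K] (φ : MulAut K) (hφ : φ ^ 11 = 1)
    (h3 : 3 ∣ Nat.card K) (h11 : ¬ 11 ∣ Nat.card K) (h81 : ¬ 81 ∣ Nat.card K) :
    ∃ y : K, orderOf y = 3 ∧ φ y = y := by
  classical
  haveI : Fact (Nat.Prime 11) := ⟨by norm_num⟩
  haveI : Fact (Nat.Prime 3) := ⟨Nat.prime_three⟩
  haveI : Fintype (Sylow 3 K) := Fintype.ofFinite _
  obtain ⟨Q₀⟩ : Nonempty (Sylow 3 K) := inferInstance
  obtain ⟨Q, hQ⟩ := Equiv.Perm.exists_fixed_point_of_prime (α := Sylow 3 K) (p := 11) (n := 1)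
    (σ := MulAction.toPermHom (MulAut K) (Sylow 3 K) φ) (fun hd => h11 (by
      rw [← Nat.card_eq_fintype_card] at hd
      exact hd.trans ((Sylow.card_dvd_index Q₀).trans (Subgroup.index_dvd_card _))))
    (by rw [pow_one, ← map_pow, hφ, map_one])
  have hQ' : φ • Q = Q := hQ
  have hmem : ∀ x : K, x ∈ (Q : Subgroup K) → φ x ∈ (Q : Subgroup K) := fun x hx => by
    have h1 : φ • x ∈ (φ • Q : Sylow 3 K).toSubgroup := Subgroup.smul_mem_pointwise_smul x φ _ hx
    rwa [hQ'] at h1
  -- the nontrivial elements of `Q`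
  let T := {x : K // x ∈ (Q : Subgroup K) ∧ x ≠ 1}
  haveI : Fintype T := Fintype.ofFinite _
  let f : T → T := fun x => ⟨φ x.1, hmem _ x.2.1, fun h => x.2.2 ((map_eq_one_iff φ φ.injective).1 h)⟩
  have hf : Function.Injective f := fun a b h => Subtype.ext (φ.injective (congrArg Subtype.val h))
  let σ : Equiv.Perm T := Equiv.ofBijective f (Finite.injective_iff_bijective.1 hf)
  have hpow : ∀ (k : ℕ) (x : T), ((σ ^ k) x).1 = (φ ^ k) x.1 := by
    intro k
    induction k with
    | zero => exact fun x => rfl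
    | succ k ih => intro x; rw [pow_succ, pow_succ, Equiv.Perm.mul_apply, MulAut.mul_apply, ih]; rfl
  obtain ⟨k, hk⟩ := IsPGroup.iff_card.1 Q.2
  have hk3 : k < 4 := by
    by_contra hle
    exact h81 ((pow_dvd_pow 3 (not_lt.1 hle)).trans (hk ▸ Subgroup.card_subgroup_dvd_card _))
  have hk0 : k ≠ 0 := fun e => by
    rw [e, pow_zero] at hk
    have h1 : 3 ∣ Nat.card (Q : Subgroup K) := by
      rw [Q.card_eq_multiplicity]
      exact dvd_pow_self 3 (Nat.Prime.factorization_pos_of_dvd Nat.prime_three Nat.card_pos.ne' h3).ne'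
    rw [hk] at h1
    norm_num at h1
  have hT : Fintype.card T = 3 ^ k - 1 := by
    rw [← hk, ← Nat.card_eq_fintype_card]
    haveI : Fintype (Q : Subgroup K) := Fintype.ofFinite _
    rw [Nat.card_congr (α := T) (β := {x : (Q : Subgroup K) // x ≠ 1})
      { toFun := fun x => ⟨⟨x.1, x.2.1⟩, fun h => x.2.2 (congrArg Subtype.val h)⟩
        invFun := fun x => ⟨x.1.1, x.1.2, fun h => x.2 (Subtype.ext h)⟩
        left_inv := fun x => rfl
        right_inv := fun x => rfl }]
    rw [Nat.card_eq_fintype_card, Nat.card_eq_fintype_card, Fintype.card_subtype_compl,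
      Fintype.card_subtype_eq]
  obtain ⟨x, hx⟩ := Equiv.Perm.exists_fixed_point_of_prime (α := T) (p := 11) (n := 1) (σ := σ)
    (by rw [hT]; interval_cases k <;> first | omega | norm_num)
    (Equiv.ext fun x => Subtype.ext (by rw [pow_one, hpow, hφ]; rfl))
  have hfix : φ x.1 = x.1 := congrArg Subtype.val hx
  obtain ⟨j, hj⟩ := Q.2 ⟨x.1, x.2.1⟩
  obtain ⟨i, -, hi⟩ := (Nat.dvd_prime_pow Nat.prime_three).1 (orderOf_dvd_of_pow_eq_one hj)
  rw [Subgroup.orderOf_mk] at hi
  have hi0 : i ≠ 0 := fun e => x.2.2 (orderOf_eq_one_iff.1 (by rw [hi, e, pow_zero]))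
  refine ⟨x.1 ^ (3 ^ (i - 1)), ?_, by rw [map_pow, hfix]⟩
  rw [orderOf_pow' _ (by positivity), hi, Nat.gcd_eq_right (pow_dvd_pow 3 (by omega)),
    Nat.pow_div (by omega) (by norm_num), show i - (i - 1) = 1 by omega, pow_one]

end Fixed

variable {G : Type u} [Group G] [Fintype G]

/-- The characters vanishing on the elements of order divisible by 11 have their sum over an
element of order three commuting with one of order 11 divisible by 33. -/
theorem sum_three (χ : IrrCharacter G) (hv : ∀ g : G, 11 ∣ orderOf g → (χ : G → ℂ) g = 0)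
    {y a : G} (hy : orderOf y = 3) (ha : orderOf a = 11) (hya : Commute y a) :
    ∃ m : ℕ, (χ : G → ℂ) 1 + (χ : G → ℂ) y + (χ : G → ℂ) (y ^ 2) = 33 * (m : ℂ) := by
  classical
  obtain ⟨m, hm⟩ := sum_over (isCharacter_irr χ) (Subgroup.zpowers (y * a))
  have ho : orderOf (y * a) = 33 := by
    rw [hya.orderOf_mul_eq_mul_orderOf_of_coprime (by rw [hy, ha]; norm_num), hy, ha]
  have hcard : Nat.card (Subgroup.zpowers (y * a)) = 33 := by rw [Nat.card_zpowers, ho]
  refine ⟨m, ?_⟩
  rw [hcard] at hm
  have hyH : y ∈ Subgroup.zpowers (y * a) := ⟨(22 : ℕ), by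
    show (y * a) ^ ((22 : ℕ) : ℤ) = y
    rw [zpow_natCast, hya.mul_pow, show y ^ 22 = y by
        rw [← pow_mod_orderOf, hy]; norm_num,
      show a ^ 22 = 1 by rw [← pow_mod_orderOf, ha]; norm_num, mul_one]⟩
  set y' : Subgroup.zpowers (y * a) := ⟨y, hyH⟩
  have hy' : orderOf y' = 3 := by rw [← Subgroup.orderOf_coe]; exact hy
  set F : Finset (Subgroup.zpowers (y * a)) := {1, y', y' ^ 2} with hF
  have hne1 : y' ≠ 1 := fun e => by rw [e, orderOf_one] at hy'; norm_num at hy'
  have hne2 : y' ^ 2 ≠ 1 := fun e => by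
    have := Nat.le_of_dvd (by norm_num) (hy' ▸ orderOf_dvd_of_pow_eq_one e); omega
  have hne3 : y' ≠ y' ^ 2 := fun e => hne1 (by
    rw [sq] at e; exact left_eq_mul.1 e)
  have hF3 : F.card = 3 := by
    rw [hF, Finset.card_insert_of_notMem (by simp [Ne.symm hne1, Ne.symm hne2]),
      Finset.card_pair hne3]
  have hroots : Finset.univ.filter (fun g : Subgroup.zpowers (y * a) => g ^ 3 = 1) = F := by
    refine (Finset.eq_of_subset_of_card_le (fun g hg => ?_) ?_).symm
    · have h3 : y' ^ 3 = 1 := hy' ▸ pow_orderOf_eq_one y'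
      simp only [hF, Finset.mem_insert, Finset.mem_singleton] at hg
      rcases hg with rfl | rfl | rfl <;> simp [h3, ← pow_mul]
      rw [show (6 : ℕ) = 3 * 2 from rfl, pow_mul, h3, one_pow]
    · rw [hF3]
      exact IsCyclic.card_pow_eq_one_le (by norm_num)
  rw [← Finset.sum_subset (s₁ := F) (Finset.subset_univ _) fun g _ hg => hv _ ?_] at hm
  · rw [hF, Finset.sum_insert (by simp [Ne.symm hne1, Ne.symm hne2]), Finset.sum_pair hne3] at hm
    simp only [y', OneMemClass.coe_one, SubmonoidClass.coe_pow] at hm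
    push_cast at hm
    linear_combination hm
  · by_contra h11
    refine hg ?_
    rw [← hroots, Finset.mem_filter]
    refine ⟨Finset.mem_univ _, orderOf_dvd_iff_pow_eq_one.1 ?_⟩
    rw [← Subgroup.orderOf_coe]
    refine Nat.Coprime.dvd_of_dvd_mul_right
      (((show Nat.Prime 11 by norm_num).coprime_iff_not_dvd.2 h11).symm) ?_
    have h33 : orderOf (g : G) ∣ Nat.card (Subgroup.zpowers (y * a)) := by
      rw [Subgroup.orderOf_coe]; exact orderOf_dvd_natCard g
    rw [hcard] at h33
    exact h33

variable [IsSimpleGroup G]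

section Bad

variable [Fact (Nat.Prime 23)] {S : Sylow 23 G} {M : Ideal AlgInt} [M.IsPrime] {c e n s : ℕ}
  {X Y : Finset (IrrCharacter G)} {sg : IrrCharacter G → ℤ} {ε : ℤ}

/-- With an element of order three centralizing `S` and an element of order 11, the principal
block has no character of degree 231, and none of degree 495 outside `X`. -/
theorem deg_ne (hcard : Nat.card G = 244823040) (hM : IsPModular 23 M) (h : Setup G 23 S)
    (B : Blk M S e s X Y sg ε) {χ : IrrCharacter G} (hχ : χ ∈ X ∨ χ ∈ Y) {y a : G}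
    (hy : orderOf y = 3) (hyC : y ∈ centralizer ((S : Subgroup G) : Set G)) (ha : orderOf a = 11)
    (hya : Commute y a) :
    charDegree (χ : G → ℂ) ≠ 231 ∧ charDegree (χ : G → ℂ) ≠ 495 := by
  classical
  haveI : Fact (Nat.Prime 11) := ⟨by norm_num⟩
  haveI : Fact (Nat.Prime 3) := ⟨Nat.prime_three⟩
  obtain ⟨d, hd⟩ : ∃ d, charDegree (χ : G → ℂ) = d := ⟨_, rfl⟩
  rw [hd]
  by_contra hcon
  have hd' : d = 231 ∨ d = 495 := by omega
  have h11d : 11 ∣ d := by rcases hd' with rfl | rfl <;> norm_num
  have hv : ∀ g : G, 11 ∣ orderOf g → (χ : G → ℂ) g = 0 := fun g hg =>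
    eq_zero_of_defectZero (p := 11) (by norm_num) χ (by
      have hf : (Nat.card G).factorization 11 = 1 := CfsgLib.FixedPoints.factorization_eq_one
        (by norm_num) Nat.card_pos.ne' (by rw [hcard]; norm_num) (by rw [hcard]; norm_num)
      rw [hf, hd, pow_one]; exact h11d) hg
  obtain ⟨m, hm⟩ := sum_three χ hv hy ha hya
  have hone : (χ : G → ℂ) 1 = (d : ℂ) := by rw [(irr_one χ).1, hd]
  rw [hone] at hm
  -- modulo 23
  have hmem : χ ∈ principalBlock M G := (B.mem χ).2 hχ
  have hcong : ∀ z ∈ centralizer ((S : Subgroup G) : Set G),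
      MemLocalIdeal M ((χ : G → ℂ) z - (d : ℂ)) := fun z hz => by
    have h1 := memLocalIdeal_mul_right (CfsgLib.SmallFaithful.value_cong hM S hmem hz)
      (natCast_mem_localRing (M := M) d)
    rwa [hd, sub_mul, div_mul_cancel₀ _ (by rcases hd' with rfl | rfl <;> norm_num), one_mul] at h1
  have h23 : (23 : ℤ) ∣ 33 * (m : ℤ) - 3 * (d : ℤ) := by
    refine (memLocalIdeal_intCast_iff hM).1 ?_
    have h2 := memLocalIdeal_add (hcong y hyC) (hcong (y ^ 2) (pow_mem hyC 2))
    convert h2 using 1
    push_cast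
    linear_combination -hm
  -- the size
  have hn1 := CfsgLib.Char.IsCharacter.norm_apply_le (isCharacter_irr χ) y
  have hn2 := CfsgLib.Char.IsCharacter.norm_apply_le (isCharacter_irr χ) (y ^ 2)
  rw [hone, Complex.natCast_re] at hn1 hn2
  have hre : (d : ℝ) + ((χ : G → ℂ) y).re + ((χ : G → ℂ) (y ^ 2)).re = 33 * (m : ℝ) := by
    have := congrArg Complex.re hm
    simpa using this
  have hr1 := (Complex.re_le_norm ((χ : G → ℂ) y)).trans hn1
  have hr2 := (Complex.re_le_norm ((χ : G → ℂ) (y ^ 2))).trans hn2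
  have hlt : 33 * m < 3 * d := by
    have hle : ((33 * m : ℕ) : ℝ) ≤ ((3 * d : ℕ) : ℝ) := by push_cast; linarith
    refine lt_of_le_of_ne (by exact_mod_cast hle) fun heq => ?_
    have heq' : (33 : ℝ) * m = 3 * d := by exact_mod_cast heq
    have h5 : ((χ : G → ℂ) y).re = d := by linarith
    have h6 : ((χ : G → ℂ) y).re = ‖(χ : G → ℂ) y‖ := le_antisymm (Complex.re_le_norm _) (h5 ▸ hn1)
    have h7 : (χ : G → ℂ) y = (d : ℂ) := by
      refine Complex.ext (by rw [h5, Complex.natCast_re]) ?_
      rw [Complex.natCast_im]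
      have h8 : ‖(χ : G → ℂ) y‖ ^ 2 = ((χ : G → ℂ) y).re ^ 2 := by rw [h6]
      rw [Complex.sq_norm, Complex.normSq_apply] at h8
      nlinarith
    have hne : χ ≠ trivIrr G := fun e1 => by
      have h1 := congrFun (congrArg Subtype.val e1) (1 : G)
      rw [hone, trivIrr_apply] at h1
      rcases hd' with rfl | rfl <;> norm_num at h1
    have h9 := faithful_of_simple h hne y (by rw [h7, hone])
    rw [h9, orderOf_one] at hy
    norm_num at hy
  rcases hd' with rfl | rfl
  · omega
  · -- the value is rational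
    have hY : χ ∈ Y := hχ.resolve_left fun hX => by
      have h1 := B.congX χ hX
      rw [show deg χ = (495 : ℤ) from congrArg Nat.cast hd] at h1
      rcases B.sign χ hX with h2 | h2 <;> rw [h2] at h1 <;> exact absurd h1 (by decide)
    obtain ⟨j, hj⟩ := Y_rational hM B hY (fun ψ hψ he => by
      have h1 := B.congX ψ hψ
      rw [he, show deg χ = (495 : ℤ) from congrArg Nat.cast hd] at h1
      rcases B.sign ψ hψ with h2 | h2 <;> rw [h2] at h1 <;> exact absurd h1 (by decide))
      (y := y) (by rw [hy]; norm_num)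
    have hj2 := value_pow χ hy hj 2 (by norm_num)
    rw [hj, hj2] at hm
    have h1 : ((495 + 2 * j : ℤ) : ℂ) = ((33 * (m : ℤ) : ℤ) : ℂ) := by
      push_cast at hm ⊢; linear_combination hm
    have h2 : 495 + 2 * j = 33 * (m : ℤ) := by exact_mod_cast h1
    omega

end Bad

/-- In the four remaining cases an element of order three centralizes `S` and an element of
order 11. -/
theorem exists_three (hcard : Nat.card G = 244823040) [Fact (Nat.Prime 23)] {S : Sylow 23 G}
    (h : Setup G 23 S) {c e n : ℕ} (num : Num S c e n) (hc : c ∣ 576) (hc3 : 3 ∣ c) (he : 11 ∣ e) :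
    ∃ y a : G, orderOf y = 3 ∧ y ∈ centralizer ((S : Subgroup G) : Set G) ∧ orderOf a = 11 ∧
      Commute y a := by
  classical
  haveI : Fact (Nat.Prime 11) := ⟨by norm_num⟩
  set C := centralizer ((S : Subgroup G) : Set G) with hCdef
  set N := normalizer ((S : Subgroup G) : Set G) with hNdef
  have hCN : C ≤ N := Subgroup.centralizer_le_normalizer _
  obtain ⟨a, hao⟩ := exists_prime_orderOf_dvd_card' (G := N) 11
    (by rw [num.cardN]; exact Dvd.dvd.mul_left he _)
  haveI hCnormal : (C.subgroupOf N).Normal := by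
    rw [hCdef, hNdef, ← normalizerMonoidHom_ker]; exact MonoidHom.normal_ker _
  set φ := MulAut.conjNormal (H := C.subgroupOf N) a
  have hK : Nat.card (C.subgroupOf N) = 23 * c :=
    (Nat.card_congr (subgroupOfEquivOfLe hCN).toEquiv).trans num.cardC
  have h576 : ∀ q : ℕ, q ∣ 23 * c → q ∣ 23 * 576 := fun q hq => hq.trans (Nat.mul_dvd_mul_left 23 hc)
  obtain ⟨y, hy, hfix⟩ := exists_fixed_three φ
    (by rw [← map_pow, ← hao, pow_orderOf_eq_one, map_one]) (hK ▸ Dvd.dvd.mul_left hc3 _)
    (fun hd => absurd (h576 _ (hK ▸ hd)) (by norm_num))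
    (fun hd => absurd (h576 _ (hK ▸ hd)) (by norm_num))
  refine ⟨((y : N) : G), (a : G), by rw [Subgroup.orderOf_coe, Subgroup.orderOf_coe, hy], y.2,
    by rw [Subgroup.orderOf_coe, hao], ?_⟩
  have h1 := congrArg (fun w : C.subgroupOf N => (w : N)) hfix
  simp only [φ, MulAut.conjNormal_apply] at h1
  exact (congrArg Subtype.val (mul_inv_eq_iff_eq_mul.1 h1)).symm

/-- **There are 967680 Sylow subgroups of order 23, with normalizers of order 253.** -/
theorem sylow_twentyThree (hcard : Nat.card G = 244823040) [Fact (Nat.Prime 23)] (S : Sylow 23 G) :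
    Nat.card (Sylow 23 G) = 967680 ∧ centralizer ((S : Subgroup G) : Set G) = (S : Subgroup G) ∧
      Nat.card (normalizer ((S : Subgroup G) : Set G)) = 253 := by
  classical
  have h : Setup G 23 S := setup hcard S (m := 10644480) (by norm_num) (by norm_num)
  obtain ⟨n, hn⟩ : ∃ n, Nat.card (Sylow 23 G) = 1 + n * 23 := by
    have hm : Nat.card (Sylow 23 G) % 23 = 1 := card_sylow_modEq_one 23 G
    exact ⟨Nat.card (Sylow 23 G) / 23, by omega⟩
  obtain ⟨c, e, num⟩ := exists_num h hn
  have hG := num.cardG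
  rw [hcard] at hG
  have hG' : c * e * (1 + n * 23) = 10644480 := by
    refine Nat.eq_of_mul_eq_mul_left (show 0 < 23 by norm_num) ?_
    calc 23 * (c * e * (1 + n * 23)) = 23 * c * e * (1 + n * 23) := by ring
      _ = _ := hG.symm
      _ = _ := by norm_num
  have hopt := count_options ⟨c * e, by rw [← hG']; ring⟩ num.npos
  obtain ⟨M, hM⟩ := exists_isPModular (Fact.out : Nat.Prime 23)
  haveI := hM.2.1.isPrime
  obtain ⟨s, X, Y, sg, ε, B⟩ := exists_blk hM h num
  have hes := B.hes
  have he : e ∈ [2, 11, 22] := by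
    have hd : e ∣ 22 := ⟨s, by omega⟩
    have := num.epos
    have := Nat.le_of_dvd (by norm_num) hd
    interval_cases e <;> simp_all
  let bad : ℕ → Bool := fun d => decide (d < 46)
  have hbad : c ≠ 1 → ∀ χ : IrrCharacter G, χ ∈ X ∨ χ ∈ Y → χ ≠ trivIrr G →
      bad (charDegree (χ : G → ℂ)) = false := fun hc χ hχ hne => by
    simp only [bad, decide_eq_false_iff_not]
    exact fun hlt => hc (c_eq_one_of_lt hM h num B hχ hne (by omega))
  let bad' : ℕ → Bool := fun d => decide (d < 46) || decide (d = 231) || decide (d = 495)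
  have hbad' : c ≠ 1 → c ∣ 576 → 3 ∣ c → 11 ∣ e → ∀ χ : IrrCharacter G, χ ∈ X ∨ χ ∈ Y →
      χ ≠ trivIrr G → bad' (charDegree (χ : G → ℂ)) = false := fun hc1 hc hc3 he' χ hχ hne => by
    obtain ⟨y, a, hy, hyC, ha, hya⟩ := exists_three hcard h num hc hc3 he'
    obtain ⟨h1, h2⟩ := deg_ne hcard hM h B hχ hy hyC ha hya
    simp only [bad', Bool.or_eq_false_iff, decide_eq_false_iff_not]
    exact ⟨⟨fun hlt => hc1 (c_eq_one_of_lt hM h num B hχ hne (by omega)), h1⟩, h2⟩
  simp only [List.mem_cons, List.not_mem_nil, or_false] at hopt he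
  rcases hopt with rfl | rfl | rfl | rfl | rfl | rfl | rfl | rfl | rfl | rfl | rfl | rfl | rfl | rfl | rfl <;>
    rcases he with rfl | rfl | rfl
  all_goals norm_num at hG'
  any_goals omega
  any_goals (refine (not_few hcard (by simp) h hn ?_).elim; norm_num; done)
  any_goals
    refine (no_block hcard hM h num B bad (hbad ?_) 2 [0] (by norm_num) ?_ ?_).elim <;>
      first | omega | decide +kernel
    done
  any_goals
    refine (no_block hcard hM h num B bad (hbad ?_) 3 [0] (by norm_num) ?_ ?_).elim <;>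
      first | omega | decide +kernel
    done
  any_goals
    refine (no_block hcard hM h num B bad (hbad ?_) 3 [0, 1] (by norm_num) ?_ ?_).elim <;>
      first | omega | decide +kernel
    done
  any_goals
    refine (no_block hcard hM h num B bad (hbad ?_) 11 [0, 5, 9] (by norm_num) ?_ ?_).elim <;>
      first | omega | decide +kernel
    done
  any_goals
    refine (no_block hcard hM h num B bad' (hbad' ?_ ?_ ?_ (by norm_num)) 2 [0]
      (by norm_num) ?_ ?_).elim <;>
      first
      | omega
      | (rcases (show c = 576 ∨ c = 288 ∨ c = 24 ∨ c = 12 by omega) with rfl | rfl | rfl | rfl <;>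
          norm_num; done)
      | decide +kernel
    done
  all_goals
    have hc1 : c = 1 := by omega
    refine ⟨by rw [hn], ?_, by rw [num.cardN, hc1]⟩
    exact (Subgroup.eq_of_le_of_card_ge (le_centralizer h)
      (by rw [num.cardC, hc1, mul_one]; exact h.cardP.ge)).symm

end CfsgLib.M24Ord
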